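import Mathlib.LinearAlgebra.Charpoly.ToMatrix
import Mathlib.LinearAlgebra.Matrix.Charpoly.Coeff
import Mathlib.RingTheory.LittleWedderburn
import Mathlib.FieldTheory.Finite.Basic
import Cfsg.Agent.H312.HT.Fin

/-!
# S3540, TEAM HT: elements of order three of `SL(2,5)`, the counting part (helper432)
-/

set_option autoImplicit false

namespace Cfsg.Agent.H432.HT

open Cfsg.Agent.PermutationGroups.AutSL25 Matrix Cfsg.Agent.H312.HT.F

/-! ### finite facts -/

/-- a second element of order three -/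
def B2 : SL25 := ⟨!![3, 4; 3, 1], by decide⟩

theorem B2_conj : ∃ g : SL25, B2 = g * B * g⁻¹ := by decide +kernel

theorem S_word : S = B * B2 * B * B * B2 := by decide +kernel

theorem three_conj : ∀ x : SL25, x * x * x = 1 → x ≠ 1 → ∃ w : SL25, x = w * B * w⁻¹ := by decide +kernel

theorem three_inv : ∀ x : SL25, x * x * x = 1 → ∃ w : SL25, w * x * w⁻¹ = x⁻¹ := by decide +kernel

theorem neg_comm : ∃ w : SL25, (-1 : SL25) = S * w * S⁻¹ * w⁻¹ := by decide +kernel

/-- half of the elements of order three -/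
def half (x : SL25) : Bool :=
  decide ((x 0 0).val * 125 + (x 0 1).val * 25 + (x 1 0).val * 5 + (x 1 1).val <
    (x⁻¹ 0 0).val * 125 + (x⁻¹ 0 1).val * 25 + (x⁻¹ 1 0).val * 5 + (x⁻¹ 1 1).val)

theorem half_or : ∀ x : SL25, x * x * x = 1 → x ≠ 1 → half x = true ∨ half x⁻¹ = true := by decide +kernel

theorem card_half : Fintype.card {x : SL25 // x * x * x = 1 ∧ x ≠ 1 ∧ half x = true} = 10 := by decide +kernel

section rep

variable {p : ℕ} [Fact p.Prime] {W : Type*} [AddCommGroup W] [Module (ZMod p) W]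
  {ρ : SL25 →* Module.End (ZMod p) W}

/-- irreducible representations -/
def Irr (ρ : SL25 →* Module.End (ZMod p) W) : Prop :=
  ∀ U : Submodule (ZMod p) W, (∀ x, ∀ u ∈ U, ρ x u ∈ U) → U = ⊥ ∨ U = ⊤

theorem two_ne (hp : 7 ≤ p) : (2 : ZMod p) ≠ 0 := by
  intro h
  have h1 : ((2 : ℕ) : ZMod p) = 0 := by exact_mod_cast h
  rw [ZMod.natCast_eq_zero_iff] at h1
  exact absurd (Nat.le_of_dvd (by norm_num) h1) (by omega)

theorem three_ne (hp : 7 ≤ p) : (3 : ZMod p) ≠ 0 := by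
  intro h
  have h1 : ((3 : ℕ) : ZMod p) = 0 := by exact_mod_cast h
  rw [ZMod.natCast_eq_zero_iff] at h1
  exact absurd (Nat.le_of_dvd (by norm_num) h1) (by omega)

theorem eq_zero_of_neg (hp : 7 ≤ p) {v : W} (h : -v = v) : v = 0 := by
  have h1 : (2 : ZMod p) • v = 0 := by
    rw [two_smul]
    nth_rewrite 1 [← h]
    exact neg_add_cancel v
  exact (smul_eq_zero.1 h1).resolve_left (two_ne hp)

/-- the two spaces of `B` and `B2` meet trivially -/
theorem inter_zero (hp : 7 ≤ p) (hneg : ρ (-1) = -1) {τ : Module.End (ZMod p) W}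
    (hτ : ∀ x, ρ x * τ = τ * ρ x) (hτ3 : τ * τ * τ = 1) {v : W} (h1 : ρ B v = τ v)
    (h2 : ρ B2 v = τ v) : v = 0 := by
  have hc : ∀ x (u : W), ρ x (τ u) = τ (ρ x u) := fun x u => LinearMap.congr_fun (hτ x) u
  have h3 : ∀ u : W, τ (τ (τ u)) = u := fun u => LinearMap.congr_fun hτ3 u
  have hS : ρ S v = τ (τ v) := by
    rw [S_word]
    simp only [map_mul, Module.End.mul_apply, h1, h2, hc, h3]
  have hSS : ρ (S * S) v = τ v := by
    rw [map_mul, Module.End.mul_apply, hS, hc, hc, hS, h3]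
  rw [relS, hneg] at hSS
  have h5 : τ v = -v := hSS.symm
  have h6 : τ (τ (τ v)) = -v := by rw [h5, map_neg, h5, neg_neg, h5]
  rw [h3] at h6
  exact eq_zero_of_neg hp h6.symm

theorem inter_zero' (hp : 7 ≤ p) (hneg : ρ (-1) = -1) {τ : Module.End (ZMod p) W}
    (hτ : ∀ x, ρ x * τ = τ * ρ x) (hτ3 : τ * τ * τ = 1) {v : W} (w : SL25)
    (h1 : ρ (w * B * w⁻¹) v = τ v) (h2 : ρ (w * B2 * w⁻¹) v = τ v) : v = 0 := by
  have hc : ∀ x (u : W), ρ x (τ u) = τ (ρ x u) := fun x u => LinearMap.congr_fun (hτ x) u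
  have hw : ∀ u : W, ρ w (ρ w⁻¹ u) = u := by
    intro u
    rw [← Module.End.mul_apply, ← map_mul]; simp
  have hw' : ∀ u : W, ρ w⁻¹ (ρ w u) = u := by
    intro u
    rw [← Module.End.mul_apply, ← map_mul]; simp
  have h0 : ρ w⁻¹ v = 0 := by
    apply inter_zero hp hneg hτ hτ3
    · rw [map_mul, map_mul, Module.End.mul_apply, Module.End.mul_apply] at h1
      have h3 := congrArg (ρ w⁻¹) h1
      rw [hw', hc] at h3
      exact h3
    · rw [map_mul, map_mul, Module.End.mul_apply, Module.End.mul_apply] at h2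
      have h3 := congrArg (ρ w⁻¹) h2
      rw [hw', hc] at h3
      exact h3
  rw [← hw v, h0, map_zero]

/-- the eigenspace -/
def F (ρ : SL25 →* Module.End (ZMod p) W) (x : SL25) (τ : Module.End (ZMod p) W) : Submodule (ZMod p) W :=
  LinearMap.ker (ρ x - τ)

theorem mem_F {x : SL25} {τ : Module.End (ZMod p) W} {v : W} : v ∈ F ρ x τ ↔ ρ x v = τ v := by
  rw [F, LinearMap.mem_ker, LinearMap.sub_apply, sub_eq_zero]

variable [Finite W]

theorem card_F (hp : 7 ≤ p) (hneg : ρ (-1) = -1) {τ : Module.End (ZMod p) W}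
    (hτ : ∀ x, ρ x * τ = τ * ρ x) (hτ3 : τ * τ * τ = 1) {x : SL25} (hx : x * x * x = 1) (hx1 : x ≠ 1) :
    Nat.card (F ρ x τ) ^ 2 ≤ Nat.card W := by
  have hc : ∀ x (u : W), ρ x (τ u) = τ (ρ x u) := fun x u => LinearMap.congr_fun (hτ x) u
  obtain ⟨w, rfl⟩ := three_conj x hx hx1
  obtain ⟨g, hg⟩ := B2_conj
  have hinv : ∀ (k : SL25) (u : W), ρ k⁻¹ (ρ k u) = u := by
    intro k u
    rw [← Module.End.mul_apply, ← map_mul]; simp
  -- transport to the second space
  have hmap : ∀ v ∈ F ρ (w * B * w⁻¹) τ, ρ (w * g * w⁻¹) v ∈ F ρ (w * B2 * w⁻¹) τ := by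
    intro v hv
    rw [mem_F] at hv ⊢
    have h1 : (w * B2 * w⁻¹) * (w * g * w⁻¹) = (w * g * w⁻¹) * (w * B * w⁻¹) := by rw [hg]; group
    rw [← Module.End.mul_apply, ← map_mul, h1, map_mul, Module.End.mul_apply, hv, hc]
  have hcard : Nat.card (F ρ (w * B * w⁻¹) τ) ≤ Nat.card (F ρ (w * B2 * w⁻¹) τ) := by
    apply Nat.card_le_card_of_injective (fun v : F ρ (w * B * w⁻¹) τ => (⟨ρ (w * g * w⁻¹) v.1, hmap _ v.2⟩ :
      F ρ (w * B2 * w⁻¹) τ))
    intro u v huv
    have h1 : ρ (w * g * w⁻¹) u.1 = ρ (w * g * w⁻¹) v.1 := congrArg Subtype.val huv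
    apply Subtype.ext
    rw [← hinv (w * g * w⁻¹) u.1, h1, hinv]
  have h2 : Nat.card (F ρ (w * B * w⁻¹) τ) * Nat.card (F ρ (w * B2 * w⁻¹) τ) ≤ Nat.card W := by
    rw [← Nat.card_prod]
    apply Nat.card_le_card_of_injective (fun z : F ρ (w * B * w⁻¹) τ × F ρ (w * B2 * w⁻¹) τ => z.1.1 - z.2.1)
    rintro ⟨a, b⟩ ⟨c, d⟩ h
    have h3 : a.1 - c.1 = b.1 - d.1 := by
      have h4 : a.1 - b.1 = c.1 - d.1 := h
      rw [sub_eq_sub_iff_add_eq_add] at h4 ⊢
      rw [h4, add_comm]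
    have h5 : a.1 - c.1 ∈ F ρ (w * B * w⁻¹) τ := sub_mem a.2 c.2
    have h6 : a.1 - c.1 ∈ F ρ (w * B2 * w⁻¹) τ := by rw [h3]; exact sub_mem b.2 d.2
    have h7 := inter_zero' hp hneg hτ hτ3 w (mem_F.1 h5) (mem_F.1 h6)
    have h8 : b.1 - d.1 = 0 := by rw [← h3, h7]
    exact Prod.ext (Subtype.ext (sub_eq_zero.1 h7)) (Subtype.ext (sub_eq_zero.1 h8))
  calc Nat.card (F ρ (w * B * w⁻¹) τ) ^ 2 = Nat.card (F ρ (w * B * w⁻¹) τ) * Nat.card (F ρ (w * B * w⁻¹) τ) := sq _
    _ ≤ _ := (Nat.mul_le_mul_left _ hcard).trans h2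

/-! ### the dimension -/

omit [Finite W] in
theorem det_comm (x w : SL25) : LinearMap.det (ρ (x * w * x⁻¹ * w⁻¹)) = 1 := by
  have h1 : LinearMap.det (ρ x) * LinearMap.det (ρ x⁻¹) = 1 := by
    rw [← map_mul, ← map_mul]; simp
  have h2 : LinearMap.det (ρ w) * LinearMap.det (ρ w⁻¹) = 1 := by
    rw [← map_mul, ← map_mul]; simp
  rw [map_mul, map_mul, map_mul, map_mul, map_mul, map_mul]
  calc _ = (LinearMap.det (ρ x) * LinearMap.det (ρ x⁻¹)) * (LinearMap.det (ρ w) * LinearMap.det (ρ w⁻¹)) := by ring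
    _ = 1 := by rw [h1, h2, one_mul]

omit [Finite W] in
theorem even_finrank (hp : 7 ≤ p) (hneg : ρ (-1) = -1) : Even (Module.finrank (ZMod p) W) := by
  obtain ⟨w, hw⟩ := neg_comm
  have h1 : LinearMap.det (ρ (-1)) = 1 := by rw [hw]; exact det_comm _ _
  rw [hneg] at h1
  have h2 : LinearMap.det (-1 : Module.End (ZMod p) W) = (-1) ^ Module.finrank (ZMod p) W := by
    have h3 : (-1 : Module.End (ZMod p) W) = (-1 : ZMod p) • (1 : Module.End (ZMod p) W) := by simp
    rw [h3, LinearMap.det_smul, map_one, mul_one]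
  rw [h2] at h1
  have h3 : (-1 : ZMod p) ≠ 1 := by
    intro h
    apply two_ne hp
    linear_combination -h
  exact (neg_one_pow_eq_one_iff_even h3).1 h1

omit [Finite W] in
theorem det_three {x : SL25} (hx : x * x * x = 1) : LinearMap.det (ρ x) = 1 := by
  obtain ⟨w, hw⟩ := three_inv x hx
  have h1 : x * x = x * w * x⁻¹ * w⁻¹ := by
    have h2 : x = (w * x * w⁻¹)⁻¹ := by rw [hw, inv_inv]
    nth_rewrite 2 [h2]
    group
  have h2 : LinearMap.det (ρ (x * x)) = 1 := by rw [h1]; exact det_comm _ _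
  have h3 : LinearMap.det (ρ (x * x * x)) = 1 := by rw [hx, map_one, map_one]
  rw [map_mul, map_mul, h2, one_mul] at h3
  exact h3

theorem finrank_ne_two (hp : 7 ≤ p) (hneg : ρ (-1) = -1) {x : SL25} (hx : x * x * x = 1) (hx1 : x ≠ 1) {v : W} (hv : v ≠ 0)
    (hxv : ρ x v = v) : Module.finrank (ZMod p) W ≠ 2 := by
  intro h2
  let b := Module.finBasisOfFinrankEq (ZMod p) W h2
  have hdet : (LinearMap.toMatrix b b (ρ x)).det = 1 := by
    rw [LinearMap.det_toMatrix]; exact det_three hx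
  have hch : (ρ x).charpoly = Polynomial.X ^ 2 - Polynomial.C (LinearMap.toMatrix b b (ρ x)).trace * Polynomial.X +
      Polynomial.C 1 := by
    rw [← LinearMap.charpoly_toMatrix (ρ x) b, Matrix.charpoly_fin_two, hdet]
  have hca := LinearMap.aeval_self_charpoly (ρ x)
  rw [hch] at hca
  set t := (LinearMap.toMatrix b b (ρ x)).trace with ht
  simp only [map_add, map_sub, map_mul, map_pow, Polynomial.aeval_X, Polynomial.aeval_C, map_one] at hca
  have h3 := LinearMap.congr_fun hca v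
  have ht2 : t = 2 := by
    simp only [LinearMap.add_apply, LinearMap.sub_apply, pow_two, Module.End.mul_apply, hxv,
      Module.algebraMap_end_apply, Module.End.one_apply, LinearMap.zero_apply] at h3
    have h4 : (2 - t) • v = 0 := by
      rw [sub_smul, two_smul]
      rw [← h3]; abel
    have h5 := (smul_eq_zero.1 h4).resolve_right hv
    linear_combination -h5
  rw [ht2] at hca
  have h2' : algebraMap (ZMod p) (Module.End (ZMod p) W) 2 = 2 := map_ofNat _ 2
  rw [h2'] at hca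
  have hn : (ρ x - 1) * (ρ x - 1) = 0 := by
    have : (ρ x - 1) * (ρ x - 1) = ρ x ^ 2 - 2 * ρ x + 1 := by noncomm_ring
    rw [this, hca]
  have h6 : ρ x * ρ x * ρ x = 1 := by rw [← map_mul, ← map_mul, hx, map_one]
  have h7 : 3 * (ρ x - 1) = 0 := by
    have h8 : ρ x * ρ x * ρ x - 1 = 3 * (ρ x - 1) + (ρ x - 1) * (ρ x - 1) * (ρ x + 2) := by noncomm_ring
    rw [h6, hn, sub_self, zero_mul, add_zero] at h8
    exact h8.symm
  have h9 : ρ x = 1 := by
    rw [← sub_eq_zero]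
    have h10 : (3 : ZMod p) • (ρ x - 1) = 0 := by
      rw [Algebra.smul_def, map_ofNat]; exact h7
    exact (smul_eq_zero.1 h10).resolve_left (three_ne hp)
  apply hv
  have h11 : ∀ k : SL25, ρ (k * x * k⁻¹) = 1 := by
    intro k
    rw [map_mul, map_mul, h9, mul_one, ← map_mul]; simp
  obtain ⟨w, hw⟩ := three_conj x hx hx1
  obtain ⟨g, hg⟩ := B2_conj
  have hB : B = w⁻¹ * x * (w⁻¹)⁻¹ := by rw [hw]; group
  have hB2 : B2 = (g * w⁻¹) * x * (g * w⁻¹)⁻¹ := by rw [hg, hB]; group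
  apply inter_zero hp hneg (τ := 1) (fun x => by simp) (by simp)
  · rw [hB, h11]
  · rw [hB2, h11]

theorem card_ge (hp : 7 ≤ p) (hneg : ρ (-1) = -1) {x : SL25} (hx : x * x * x = 1) (hx1 : x ≠ 1) {v : W} (hv : v ≠ 0)
    (hxv : ρ x v = v) : 2401 ≤ Nat.card W := by
  have h1 := even_finrank hp hneg
  have h2 := finrank_ne_two hp hneg hx hx1 hv hxv
  have hfin : Module.Finite (ZMod p) W := Module.Finite.of_finite
  have hnt : Nontrivial W := ⟨v, 0, hv⟩
  have h3 : 0 < Module.finrank (ZMod p) W := Module.finrank_pos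
  have h4 : 4 ≤ Module.finrank (ZMod p) W := by
    obtain ⟨k, hk⟩ := h1
    omega
  rw [Module.natCard_eq_pow_finrank (K := ZMod p), Nat.card_zmod]
  calc 2401 = 7 ^ 4 := by norm_num
    _ ≤ p ^ 4 := Nat.pow_le_pow_left hp 4
    _ ≤ p ^ Module.finrank (ZMod p) W := Nat.pow_le_pow_right (by omega) h4

/-! ### the centralizer -/

/-- the elements of order three of the centralizer -/
def Th (ρ : SL25 →* Module.End (ZMod p) W) : Set (Module.End (ZMod p) W) :=
  {τ | (∀ x, ρ x * τ = τ * ρ x) ∧ τ * τ * τ = 1}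

theorem finite_end : Finite (Module.End (ZMod p) W) :=
  Finite.of_injective (fun f : Module.End (ZMod p) W => (f : W → W)) DFunLike.coe_injective

theorem card_Th [Nontrivial W] (hirr : Irr ρ) : Nat.card (Th ρ) ≤ 3 := by
  classical
  have hfe : Finite (Module.End (ZMod p) W) := finite_end
  let D : Subring (Module.End (ZMod p) W) := Subring.centralizer (Set.range ρ)
  have hmem : ∀ {τ : Module.End (ZMod p) W}, τ ∈ D ↔ ∀ x, ρ x * τ = τ * ρ x := by
    intro τ
    rw [Subring.mem_centralizer_iff]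
    constructor
    · intro h x
      exact h _ ⟨x, rfl⟩
    · rintro h _ ⟨x, rfl⟩
      exact h x
  have hz : NoZeroDivisors D := ⟨by
    rintro ⟨a, ha⟩ ⟨b, hb⟩ hab
    have hab' : a * b = 0 := congrArg Subtype.val hab
    have hinv : ∀ x, ∀ u ∈ LinearMap.ker a, ρ x u ∈ LinearMap.ker a := by
      intro x u hu
      have h1 : ρ x (a u) = a (ρ x u) := LinearMap.congr_fun (hmem.1 ha x) u
      rw [LinearMap.mem_ker] at hu ⊢
      rw [← h1, hu, map_zero]
    rcases hirr (LinearMap.ker a) hinv with h | h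
    · right
      apply Subtype.ext
      ext v
      have h1 : b v ∈ LinearMap.ker a := LinearMap.congr_fun hab' v
      rw [h, Submodule.mem_bot] at h1
      exact h1
    · left
      apply Subtype.ext
      exact LinearMap.ker_eq_top.1 h⟩
  have hd : IsDomain D := NoZeroDivisors.to_isDomain D
  have hf : IsField D := Finite.isDomain_to_isField D
  let _ : Field D := hf.toField
  have hle : (Polynomial.nthRoots 3 (1 : D)).toFinset.card ≤ 3 :=
    (Multiset.toFinset_card_le _).trans (Polynomial.card_nthRoots 3 1)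
  have h3 : Nat.card (Th ρ) ≤ Nat.card ((Polynomial.nthRoots 3 (1 : D)).toFinset) := by
    apply Nat.card_le_card_of_injective (fun τ : Th ρ => (⟨⟨τ.1, hmem.2 τ.2.1⟩, by
      rw [Multiset.mem_toFinset, Polynomial.mem_nthRoots (by norm_num)]
      apply Subtype.ext
      have h4 := τ.2.2
      change τ.1 ^ 3 = 1
      rw [pow_three', h4]⟩ : ((Polynomial.nthRoots 3 (1 : D)).toFinset)))
    intro σ τ hst
    have h4 := congrArg (fun z : ((Polynomial.nthRoots 3 (1 : D)).toFinset) => ((z : D) : Module.End (ZMod p) W)) hst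
    exact Subtype.ext h4
  refine h3.trans ?_
  rw [Nat.card_eq_fintype_card, Fintype.card_coe]
  exact hle

/-- the counting argument -/
theorem cover_contra (hp : 7 ≤ p) (hneg : ρ (-1) = -1) (hirr : Irr ρ) {x : SL25} (hx : x * x * x = 1) (hx1 : x ≠ 1)
    {v : W} (hv : v ≠ 0) (hxv : ρ x v = v)
    (hcov : ∀ w : W, w ≠ 0 → ∃ (y : SL25) (τ : Module.End (ZMod p) W), y * y * y = 1 ∧ y ≠ 1 ∧ τ ∈ Th ρ ∧
      ρ y w = τ w) : False := by
  classical
  have hnt : Nontrivial W := ⟨v, 0, hv⟩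
  have hfe : Finite (Module.End (ZMod p) W) := finite_end
  let _ : Fintype W := Fintype.ofFinite W
  let _ : Fintype (Th ρ) := Fintype.ofFinite _
  have hTh := card_Th hirr
  have hge := card_ge hp hneg hx hx1 hv hxv
  let f : {x : SL25 // x * x * x = 1 ∧ x ≠ 1 ∧ half x = true} × Th ρ → Finset W := fun i =>
    (Finset.univ : Finset W).filter fun w => w ∈ F ρ i.1.1 i.2.1
  have hf : ∀ i, (f i).card ≤ Nat.sqrt (Nat.card W) := by
    intro i
    rw [Nat.le_sqrt']
    have h1 := card_F hp hneg i.2.2.1 i.2.2.2 i.1.2.1 i.1.2.2.1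
    have h2 : (f i).card = Nat.card (F ρ i.1.1 i.2.1) := by
      rw [Nat.card_eq_fintype_card, Fintype.card_subtype]
    rw [h2]
    exact h1
  have hsub : (Finset.univ : Finset W) ⊆ (Finset.univ : Finset _).biUnion f := by
    intro w _
    rw [Finset.mem_biUnion]
    have key : ∃ (y : SL25) (τ : Module.End (ZMod p) W), y * y * y = 1 ∧ y ≠ 1 ∧ half y = true ∧ τ ∈ Th ρ ∧
        ρ y w = τ w := by
      have h0 : ∃ (y : SL25) (τ : Module.End (ZMod p) W), y * y * y = 1 ∧ y ≠ 1 ∧ τ ∈ Th ρ ∧ ρ y w = τ w := by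
        by_cases hw : w = 0
        · exact ⟨x, 1, hx, hx1, ⟨fun x => by simp, by simp⟩, by rw [hw]; simp⟩
        · exact hcov w hw
      obtain ⟨y, τ, h1, h2, h3, h4⟩ := h0
      rcases half_or y h1 h2 with h5 | h5
      · exact ⟨y, τ, h1, h2, h5, h3, h4⟩
      · have hy3 : y⁻¹ * y⁻¹ * y⁻¹ = 1 := by
          have : y⁻¹ * y⁻¹ * y⁻¹ = (y * y * y)⁻¹ := by group
          rw [this, h1, inv_one]
        have hc : ∀ (u : W), ρ y (τ u) = τ (ρ y u) := fun u => LinearMap.congr_fun (h3.1 y) u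
        have ht3 : ∀ u : W, τ (τ (τ u)) = u := fun u => LinearMap.congr_fun h3.2 u
        refine ⟨y⁻¹, τ * τ, hy3, by simpa using h2, h5, ⟨fun z => ?_, ?_⟩, ?_⟩
        · rw [← mul_assoc, h3.1 z, mul_assoc, h3.1 z, mul_assoc]
        · have : τ * τ * (τ * τ) * (τ * τ) = (τ * τ * τ) * (τ * τ * τ) := by noncomm_ring
          rw [this, h3.2, one_mul]
        · have h6 : y⁻¹ = y * y := by
            rw [inv_eq_iff_mul_eq_one]
            rw [← mul_assoc]; exact h1
          rw [h6, map_mul, Module.End.mul_apply, Module.End.mul_apply, h4, hc, h4]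
    obtain ⟨y, τ, h1, h2, h3, h4, h5⟩ := key
    refine ⟨(⟨y, h1, h2, h3⟩, ⟨τ, h4⟩), Finset.mem_univ _, ?_⟩
    simp only [f, Finset.mem_filter, Finset.mem_univ, true_and]
    exact mem_F.2 h5
  have h1 := Finset.card_le_card hsub
  have h2 := Finset.card_biUnion_le_card_mul (Finset.univ : Finset ({x : SL25 // x * x * x = 1 ∧ x ≠ 1 ∧
    half x = true} × Th ρ)) f _ (fun i _ => hf i)
  rw [Finset.card_univ, Fintype.card_prod, card_half, ← Nat.card_eq_fintype_card (α := Th ρ)] at h2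
  have h3 := h1.trans h2
  rw [Finset.card_univ, ← Nat.card_eq_fintype_card (α := W)] at h3
  have h4 : Nat.card W ≤ 30 * Nat.sqrt (Nat.card W) := by
    refine h3.trans (Nat.mul_le_mul_right _ ?_)
    omega
  have h5 : Nat.sqrt (Nat.card W) * Nat.sqrt (Nat.card W) ≤ Nat.card W := Nat.sqrt_le _
  have h6 : 49 ≤ Nat.sqrt (Nat.card W) := by
    rw [Nat.le_sqrt]
    omega
  nlinarith

end rep

end Cfsg.Agent.H432.HT
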