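import Cfsg.Agent.H312.HT.Def
import Cfsg.Agent.H432.HT.ThreeA

/-!
# S3540, TEAM HT: elements of order three of `SL(2,5)` have no fixed vectors (helper432)
-/

set_option autoImplicit false

namespace Cfsg.Agent.H432.HT

open Cfsg.Agent.H828.HT Cfsg.Agent.PermutationGroups.AutSL25 Cfsg.Agent.H312.HT Matrix Cfsg.Agent.H312.HT.F

universe u

/-! ### automorphisms of order three of `SL(2,5)` -/

theorem T4_conj : ∃ w : SL25, T * T * T * T = w * T * w⁻¹ := by decide +kernel

theorem neg_cube : ∀ u : SL25, u * u * u = -1 → (-u) * (-u) * (-u) = 1 := by decide +kernel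

/-- an automorphism of order three is conjugation by an element of order three -/
theorem aut_three (ψ : SL25 →* SL25) (hinj : Function.Injective ψ) (h1 : ψ (-1) = -1) (h3 : ∀ x, ψ (ψ (ψ x)) = x)
    (hne : ∃ x, ψ x ≠ x) : ∃ y : SL25, y * y * y = 1 ∧ y ≠ 1 ∧ ∀ x, ψ x = y * x * y⁻¹ := by
  have h5 : ψ T * ψ T * ψ T * ψ T * ψ T = 1 := by
    rw [← map_mul, ← map_mul, ← map_mul, ← map_mul, relT, map_one]
  have hT1 : (T : SL25) ≠ 1 := by decide +kernel
  have hT : ψ T ≠ 1 := by
    intro h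
    exact hT1 (hinj (h.trans (map_one ψ).symm))
  have hw : ∃ w : SL25, ψ T = w * T * w⁻¹ := by
    rcases five_conj (ψ T) h5 hT with h | ⟨w, hw⟩
    · exact h
    · exfalso
      obtain ⟨a, ha⟩ := T4_conj
      obtain ⟨b, hb⟩ := conj_T3
      -- `ψ T ~ T²`, `ψ² T ~ T⁴ ~ T`, `ψ³ T ~ T²`
      have h6 : ψ (ψ T) = (ψ w * (w * a)) * T * (ψ w * (w * a))⁻¹ := by
        rw [hw, map_mul, map_mul, map_mul, map_inv, hw]
        calc ψ w * ((w * (T * T) * w⁻¹) * (w * (T * T) * w⁻¹)) * (ψ w)⁻¹ =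
            ψ w * (w * (T * T * T * T) * w⁻¹) * (ψ w)⁻¹ := by group
          _ = _ := by rw [ha]; group
      have h7 : ψ (ψ (ψ T)) = (ψ (ψ w * (w * a)) * w) * (T * T) * (ψ (ψ w * (w * a)) * w)⁻¹ := by
        rw [h6, map_mul, map_mul, map_inv, hw]
        group
      rw [h3] at h7
      apply not_conj (ψ (ψ w * (w * a)) * w)⁻¹
      nth_rewrite 1 [h7]
      group
  obtain ⟨w, hw⟩ := hw
  obtain ⟨u, hu⟩ := inner_of_conj ψ h1 hw
  have hcen : ∀ x, (u * u * u) * x = x * (u * u * u) := by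
    intro x
    have h6 := h3 x
    rw [hu, hu (ψ x), hu x] at h6
    calc (u * u * u) * x = (u * (u * (u * x * u⁻¹) * u⁻¹) * u⁻¹) * (u * u * u) := by group
      _ = _ := by rw [h6]
  rcases mem_center_iff _ ⟨hcen S, hcen T⟩ with h6 | h6
  · refine ⟨u, h6, ?_, hu⟩
    rintro rfl
    obtain ⟨x, hx⟩ := hne
    apply hx
    rw [hu]; simp
  · refine ⟨-u, neg_cube u h6, ?_, ?_⟩
    · intro h7
      obtain ⟨x, hx⟩ := hne
      apply hx
      rw [hu]
      have h8 : u = -1 := by rw [← h7, neg_neg]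
      rw [h8]
      have h9 : (-1 : SL25)⁻¹ = -1 := by decide +kernel
      rw [h9]; simp
    · intro x
      rw [hu]
      have h9 : ∀ u : SL25, (-u)⁻¹ = -u⁻¹ := by decide +kernel
      rw [h9]
      simp

section main

variable {p : ℕ} [Fact p.Prime] {V : Type u} [AddCommGroup V] [Module (ZMod p) V]

/-- an element of the enveloping algebra that commutes with the group is zero or injective -/
theorem fs3 {e : SL25 →* (V ≃ₗ[ZMod p] V)} (hom : FaithSub e.range) {f : Module.End (ZMod p) V}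
    (hf : f ∈ Algebra.adjoin (ZMod p) (Set.range fun x => (e x : V →ₗ[ZMod p] V))) {W : Submodule (ZMod p) V}
    (hW : W ≠ ⊥) (hi : ∀ x, ∀ w ∈ W, e x w ∈ W) (hfw : ∀ w ∈ W, f w = 0) : f = 0 := by
  refine hom W hW ?_ f ?_ hfw
  · rintro _ ⟨x, rfl⟩ w hw
    exact hi x w hw
  · convert hf using 2
    ext g
    constructor
    · rintro ⟨_, ⟨x, rfl⟩, rfl⟩
      exact ⟨x, rfl⟩
    · rintro ⟨x, rfl⟩
      exact ⟨e x, ⟨x, rfl⟩, rfl⟩

/-- `-1` acts as `-1` -/
theorem neg_act {e : SL25 →* (V ≃ₗ[ZMod p] V)} (he : Function.Injective e) (hom : FaithSub e.range) (v : V) :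
    e (-1) v = -v := by
  by_contra h
  have hmem : ∀ x, (e x : V →ₗ[ZMod p] V) ∈ Algebra.adjoin (ZMod p) (Set.range fun x => (e x : V →ₗ[ZMod p] V)) :=
    fun x => Algebra.subset_adjoin ⟨x, rfl⟩
  let W : Submodule (ZMod p) V := LinearMap.ker ((e (-1) : V →ₗ[ZMod p] V) - 1)
  have hWm : ∀ w, w ∈ W ↔ e (-1) w = w := by
    intro w
    rw [LinearMap.mem_ker, LinearMap.sub_apply, sub_eq_zero]
    rfl
  have hee : ∀ (x y : SL25) (w : V), e x (e y w) = e (x * y) w := by
    intro x y w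
    rw [map_mul]; rfl
  have h1 : e (-1) v + v ∈ W := by
    rw [hWm, map_add, hee]
    have : (-1 : SL25) * -1 = 1 := by simp
    rw [this, map_one]
    exact add_comm _ _
  have h0 : e (-1) v + v ≠ 0 := fun h2 => h (eq_neg_of_add_eq_zero_left h2)
  have h2 := fs3 hom (Subalgebra.sub_mem _ (hmem (-1)) (Subalgebra.one_mem _)) (W := W) (by
      intro h3
      rw [h3, Submodule.mem_bot] at h1
      exact h0 h1) (by
      intro x w hw
      rw [hWm] at hw ⊢
      rw [hee]
      have : (-1 : SL25) * x = x * -1 := by simp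
      rw [this, ← hee, hw]) (fun w hw => hw)
  apply neg_one_ne
  apply he
  rw [map_one]
  ext w
  have h3 := LinearMap.congr_fun h2 w
  rw [LinearMap.sub_apply, LinearMap.zero_apply, sub_eq_zero] at h3
  exact h3

theorem seven_le' {G : Subgroup (V ≃ₗ[ZMod p] V)} (hG : ¬ p ∣ Nat.card G)
    {e : SL25 →* (V ≃ₗ[ZMod p] V)} (he : Function.Injective e) (hL : ∀ x, e x ∈ G) : 7 ≤ p := by
  have h1 : Nat.card SL25 ∣ Nat.card G := by
    have h2 : Function.Injective (e.codRestrict G hL) := by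
      intro x y h
      exact he (congrArg Subtype.val h)
    exact Subgroup.card_dvd_of_injective _ h2
  rw [natCard] at h1
  have hp : p.Prime := Fact.out
  by_contra h
  have h3 : ¬ p ∣ 120 := fun h4 => hG (h4.trans h1)
  have h5 : p < 7 := by omega
  interval_cases p <;> first | exact h3 (by decide) | exact absurd hp (by decide)

/-- the restriction to an invariant subspace -/
def res (e : SL25 →* (V ≃ₗ[ZMod p] V)) (W : Submodule (ZMod p) V) (hi : ∀ x, ∀ w ∈ W, e x w ∈ W) :
    SL25 →* Module.End (ZMod p) W where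
  toFun x := (e x : V →ₗ[ZMod p] V).restrict (hi x)
  map_one' := by
    ext w
    rw [LinearMap.coe_restrict_apply, map_one]
    rfl
  map_mul' x y := by
    ext w
    rw [LinearMap.coe_restrict_apply, map_mul]
    rfl

theorem res_apply (e : SL25 →* (V ≃ₗ[ZMod p] V)) (W : Submodule (ZMod p) V) (hi : ∀ x, ∀ w ∈ W, e x w ∈ W)
    (x : SL25) (w : W) : (res e W hi x w : V) = e x w := rfl

variable [Finite V]

/-- (I) elements of order three have no fixed vectors -/
theorem three_free {G : Subgroup (V ≃ₗ[ZMod p] V)} {h : ℕ} (hG : ¬ p ∣ Nat.card G) (hh : Half G h) (_h2 : 2 ≤ h)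
    (e : SL25 →* (V ≃ₗ[ZMod p] V)) (he : Function.Injective e) (hL : ∀ x, e x ∈ G)
    (hn : ∀ g ∈ G, ∀ x, ∃ y, g * e x * g⁻¹ = e y) (hom : FaithSub e.range) :
    ∀ x, x * x * x = 1 → x ≠ 1 → ∀ v, e x v = v → v = 0 := by
  intro x0 hx0 hx01 v0 hv0
  by_contra hv00
  have hp7 := seven_le' hG he hL
  have hmem : ∀ x, (e x : V →ₗ[ZMod p] V) ∈ Algebra.adjoin (ZMod p) (Set.range fun x => (e x : V →ₗ[ZMod p] V)) :=
    fun x => Algebra.subset_adjoin ⟨x, rfl⟩
  have hneg := neg_act he hom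
  have hee : ∀ (x y : SL25) (w : V), e x (e y w) = e (x * y) w := by
    intro x y w
    rw [map_mul]; rfl
  -- an irreducible submodule
  obtain ⟨W, ⟨hWne, hi⟩, hmin⟩ : ∃ W : Submodule (ZMod p) V, Minimal (fun W : Submodule (ZMod p) V => W ≠ ⊥ ∧
      ∀ x, ∀ w ∈ W, e x w ∈ W) W := by
    apply exists_minimal_of_wellFoundedLT
    refine ⟨⊤, ?_, fun _ _ _ => trivial⟩
    intro h3
    apply hv00
    rw [← Submodule.mem_bot (ZMod p), ← h3]
    trivial
  -- submodules of `W`
  have hsub : ∀ U : Submodule (ZMod p) V, (∀ x, ∀ w ∈ U, e x w ∈ U) → (∃ u, u ≠ 0 ∧ u ∈ U ∧ u ∈ W) → W ≤ U := by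
    rintro U hU ⟨u, hu0, huU, huW⟩
    refine le_trans (hmin (y := W ⊓ U) ⟨?_, ?_⟩ inf_le_left) inf_le_right
    · intro h3
      apply hu0
      rw [← Submodule.mem_bot (ZMod p), ← h3]
      exact ⟨huW, huU⟩
    · intro x w hw
      exact ⟨hi x w hw.1, hU x w hw.2⟩
  have hirr : Irr (res e W hi) := by
    intro U hU
    by_cases hU0 : U = ⊥
    · exact Or.inl hU0
    · right
      obtain ⟨u, huU, hu0⟩ := Submodule.exists_mem_ne_zero_of_ne_bot hU0
      have h3 := hsub (U.map W.subtype) (by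
        rintro x _ ⟨w, hw, rfl⟩
        exact ⟨res e W hi x w, hU x w hw, rfl⟩) ⟨u, by simpa using hu0, ⟨u, huU, rfl⟩, u.2⟩
      rw [eq_top_iff]
      intro w _
      obtain ⟨w', hw', hww⟩ := h3 w.2
      have : w' = w := Subtype.ext hww
      rw [← this]; exact hw'
  have hnegW : res e W hi (-1) = -1 := by
    ext w
    rw [res_apply, hneg]
    rfl
  -- `x0` has a fixed vector in `W`
  have hfix : ∃ w1 ∈ W, w1 ≠ 0 ∧ e x0 w1 = w1 := by
    by_contra hc
    push Not at hc
    have h3 : ∀ w ∈ W, ((e x0 : V →ₗ[ZMod p] V) * (e x0 : V →ₗ[ZMod p] V) + (e x0 : V →ₗ[ZMod p] V) + 1) w = 0 := by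
      intro w hw
      by_contra h4
      have h5 : ((e x0 : V →ₗ[ZMod p] V) * (e x0 : V →ₗ[ZMod p] V) + (e x0 : V →ₗ[ZMod p] V) + 1) w =
        e x0 (e x0 w) + e x0 w + w := rfl
      rw [h5] at h4
      apply hc _ ?_ h4
      · rw [map_add, map_add, hee, hee, hee, hx0, map_one]
        change w + e (x0 * x0) w + e x0 w = _
        abel
      · exact W.add_mem (W.add_mem (hi _ _ (hi _ _ hw)) (hi _ _ hw)) hw
    have h4 := fs3 hom (Subalgebra.add_mem _ (Subalgebra.add_mem _ (Subalgebra.mul_mem _ (hmem x0) (hmem x0))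
      (hmem x0)) (Subalgebra.one_mem _)) hWne hi h3
    have h5 := LinearMap.congr_fun h4 v0
    have h6 : e x0 (e x0 v0) + e x0 v0 + v0 = 0 := h5
    rw [hv0, hv0] at h6
    have h7 : (3 : ZMod p) • v0 = 0 := by
      rw [← h6]
      module
    exact hv00 ((smul_eq_zero.1 h7).resolve_left (three_ne hp7))
  obtain ⟨w1, hw1W, hw10, hw1⟩ := hfix
  -- the stabilisers
  let A : Subgroup G := (Subgroup.centralizer (Set.range e)).subgroupOf G
  have hA : ∀ g : G, g ∈ A ↔ ∀ x, e x * (g : V ≃ₗ[ZMod p] V) = g * e x := by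
    intro g
    rw [Subgroup.mem_subgroupOf, Subgroup.mem_centralizer_iff]
    constructor
    · intro h3 x
      exact h3 _ ⟨x, rfl⟩
    · rintro h3 _ ⟨x, rfl⟩
      exact h3 x
  have hAn : A.Normal := by
    constructor
    intro a ha g
    rw [hA] at ha ⊢
    intro x
    obtain ⟨y, hy⟩ := hn _ (G.inv_mem g.2) x
    have h3 : e x = g * e y * (g : V ≃ₗ[ZMod p] V)⁻¹ := by rw [← hy]; group
    have h4 := ha y
    rw [Subgroup.coe_mul, Subgroup.coe_mul, Subgroup.coe_inv, h3]
    calc (g : V ≃ₗ[ZMod p] V) * e y * (g : V ≃ₗ[ZMod p] V)⁻¹ * (g * a * (g : V ≃ₗ[ZMod p] V)⁻¹) =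
        g * (e y * a) * (g : V ≃ₗ[ZMod p] V)⁻¹ := by group
      _ = g * (a * e y) * (g : V ≃ₗ[ZMod p] V)⁻¹ := by rw [h4]
      _ = _ := by group
  -- an element of the centralizer that fixes a vector of `W` fixes all of them
  have hAW : ∀ g : V ≃ₗ[ZMod p] V, (∀ x, e x * g = g * e x) → ∀ v ∈ W, v ≠ 0 → g v = v → ∀ w ∈ W, g w = w := by
    intro g hg v hvW hv hgv
    have h3 := hsub (LinearMap.ker ((g : V →ₗ[ZMod p] V) - 1)) (by
      intro x w hw
      rw [LinearMap.mem_ker, LinearMap.sub_apply, sub_eq_zero] at hw ⊢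
      have h4 : g w = w := hw
      have h5 : e x (g w) = g (e x w) := by
        change (e x * g) w = (g * e x) w
        rw [hg]
      change g (e x w) = e x w
      rw [← h5, h4]) ⟨v, hv, by
      rw [LinearMap.mem_ker, LinearMap.sub_apply, sub_eq_zero]
      exact hgv, hvW⟩
    intro w hw
    have h4 := h3 hw
    rw [LinearMap.mem_ker, LinearMap.sub_apply, sub_eq_zero] at h4
    exact h4
  have hcardA : ∀ v ∈ W, v ≠ 0 → Nat.card (A.subgroupOf (MulAction.stabilizer G v)) =
      Nat.card (A.subgroupOf (MulAction.stabilizer G w1)) := by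
    intro v hvW hv
    refine Nat.card_congr ⟨fun a => ⟨⟨a.1.1, ?_⟩, a.2⟩, fun a => ⟨⟨a.1.1, ?_⟩, a.2⟩, fun a => rfl, fun a => rfl⟩
    · exact hAW _ ((hA _).1 a.2) v hvW hv a.1.2 w1 hw1W
    · exact hAW _ ((hA _).1 a.2) w1 hw1W hw10 a.1.2 v hvW
  have hq : ∀ v ∈ W, v ≠ 0 → 3 ∣ Nat.card (MulAction.stabilizer G v ⧸ A.subgroupOf (MulAction.stabilizer G v)) := by
    intro v hvW hv
    have h3 : Nat.card (MulAction.stabilizer G v ⧸ A.subgroupOf (MulAction.stabilizer G v)) =
        Nat.card (MulAction.stabilizer G w1 ⧸ A.subgroupOf (MulAction.stabilizer G w1)) := by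
      have h4 := Subgroup.card_eq_card_quotient_mul_card_subgroup (A.subgroupOf (MulAction.stabilizer G v))
      have h5 := Subgroup.card_eq_card_quotient_mul_card_subgroup (A.subgroupOf (MulAction.stabilizer G w1))
      rw [hh v hv, hcardA v hvW hv] at h4
      rw [hh w1 hw10] at h5
      exact Nat.eq_of_mul_eq_mul_right Nat.card_pos (h4.symm.trans h5)
    rw [h3]
    let g0 : MulAction.stabilizer G w1 := ⟨⟨e x0, hL x0⟩, hw1⟩
    have h4 : orderOf (QuotientGroup.mk' (A.subgroupOf (MulAction.stabilizer G w1)) g0) = 3 := by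
      apply orderOf_eq_prime
      · rw [← map_pow]
        have : g0 ^ 3 = 1 := by
          apply Subtype.ext
          apply Subtype.ext
          change e x0 ^ 3 = 1
          rw [← map_pow, pow_three', hx0, map_one]
        rw [this, map_one]
      · intro h5
        rw [QuotientGroup.mk'_apply, QuotientGroup.eq_one_iff] at h5
        have h6 := (hA _).1 (Subgroup.mem_subgroupOf.1 h5)
        have h7 : ∀ x, x * x0 = x0 * x := by
          intro x
          apply he
          rw [map_mul, map_mul]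
          exact h6 x
        rcases mem_center_iff x0 ⟨(h7 S).symm, (h7 T).symm⟩ with h8 | h8
        · exact hx01 h8
        · rw [h8] at hx0
          revert hx0
          decide +kernel
    rw [← h4]
    exact orderOf_dvd_natCard _
  -- the covering
  apply cover_contra (ρ := res e W hi) hp7 hnegW hirr hx0 hx01 (v := ⟨w1, hw1W⟩)
  · intro h3
    exact hw10 (congrArg Subtype.val h3)
  · apply Subtype.ext
    exact hw1
  rintro ⟨v, hvW⟩ hv'
  have hv : v ≠ 0 := fun h3 => hv' (Subtype.ext h3)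
  have h3 := hq v hvW hv
  have : Fact (Nat.Prime 3) := ⟨Nat.prime_three⟩
  obtain ⟨q, hq3⟩ := exists_prime_orderOf_dvd_card' 3 h3
  obtain ⟨g, rfl⟩ := QuotientGroup.mk'_surjective _ q
  have hg3 : g.1 * g.1 * g.1 ∈ A := by
    have h4 := pow_orderOf_eq_one (QuotientGroup.mk' (A.subgroupOf (MulAction.stabilizer G v)) g)
    rw [hq3, ← map_pow, QuotientGroup.mk'_apply, QuotientGroup.eq_one_iff, Subgroup.mem_subgroupOf, pow_three'] at h4
    exact h4
  have hg1 : g.1 ∉ A := by
    intro h4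
    have h5 : QuotientGroup.mk' (A.subgroupOf (MulAction.stabilizer G v)) g = 1 := by
      rw [QuotientGroup.mk'_apply, QuotientGroup.eq_one_iff, Subgroup.mem_subgroupOf]
      exact h4
    rw [h5, orderOf_one] at hq3
    omega
  have hgv : (g.1.1 : V ≃ₗ[ZMod p] V) v = v := g.2
  obtain ⟨k, hk⟩ : ∃ k : V ≃ₗ[ZMod p] V, (g.1.1 : V ≃ₗ[ZMod p] V) = k := ⟨_, rfl⟩
  have hkG : k ∈ G := hk ▸ g.1.2
  rw [hk] at hgv
  have hk3 : ∀ x, e x * (k * k * k) = k * k * k * e x := by
    rw [← hk]; exact (hA _).1 hg3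
  have hk1 : ∃ x, e x * k ≠ k * e x := by
    by_contra hc
    push Not at hc
    rw [← hk] at hc
    exact hg1 ((hA _).2 hc)
  -- the automorphism
  choose f hf using hn k hkG
  let ψ : SL25 →* SL25 :=
    { toFun := f
      map_one' := by
        apply he
        rw [← hf, map_one]; group
      map_mul' := by
        intro x y
        apply he
        rw [map_mul, ← hf, ← hf, ← hf, map_mul]; group }
  have hψ : ∀ x, e (ψ x) = k * e x * k⁻¹ := fun x => (hf x).symm
  obtain ⟨y, hy3, hy1, hy⟩ := aut_three ψ (by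
      intro x x' hxx
      apply he
      have h4 := congrArg e hxx
      rw [hψ, hψ] at h4
      exact mul_left_cancel (mul_right_cancel h4)) (by
      apply he
      rw [hψ]
      have h4 : k * e (-1) = e (-1) * k := by
        ext w
        change k (e (-1) w) = e (-1) (k w)
        rw [hneg, hneg, map_neg]
      rw [h4]; group) (by
      intro x
      apply he
      rw [hψ, hψ, hψ]
      have h4 := hk3 x
      calc k * (k * (k * e x * k⁻¹) * k⁻¹) * k⁻¹ = (k * k * k * e x) * (k * k * k)⁻¹ := by group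
        _ = e x := by rw [← h4]; group) (by
      obtain ⟨x, hx⟩ := hk1
      refine ⟨x, fun h4 => hx ?_⟩
      have h5 := hψ x
      rw [h4] at h5
      nth_rewrite 1 [h5]
      group)
  -- the centralising part
  obtain ⟨a, ha⟩ : ∃ a : V ≃ₗ[ZMod p] V, a = (e y)⁻¹ * k := ⟨_, rfl⟩
  have hka : k = e y * a := by rw [ha]; group
  have hac : ∀ x, e x * a = a * e x := by
    intro x
    have h4 := hψ x
    rw [hy, map_mul, map_mul, map_inv, hka] at h4
    calc e x * a = (e y)⁻¹ * (e y * e x * (e y)⁻¹) * (e y * a) := by group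
      _ = _ := by rw [h4]; group
  have hcomm : ∀ (x : SL25) (w : V), e x (a w) = a (e x w) := by
    intro x w
    change (e x * a) w = (a * e x) w
    rw [hac]
  have hav : a v = e y⁻¹ v := by
    rw [ha, map_inv]
    change (e y)⁻¹ (k v) = (e y)⁻¹ v
    rw [hgv]
  have haW : ∀ w ∈ W, a w ∈ W := by
    have h4 := hsub (W.comap (a : V →ₗ[ZMod p] V)) (by
      intro x w hw
      rw [Submodule.mem_comap] at hw ⊢
      change a (e x w) ∈ W
      rw [← hcomm]
      exact hi x _ hw) ⟨v, hv, by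
      rw [Submodule.mem_comap]
      change a v ∈ W
      rw [hav]
      exact hi _ _ hvW, hvW⟩
    intro w hw
    exact h4 hw
  have hk3a : k * k * k = a * a * a := by
    have h4 : e y * e y * e y = 1 := by rw [← map_mul, ← map_mul, hy3, map_one]
    have h5 := hac y
    calc k * k * k = e y * (a * e y) * (a * e y) * a := by rw [hka]; group
      _ = e y * (e y * a) * (e y * a) * a := by rw [← h5]
      _ = e y * e y * (a * e y) * a * a := by group
      _ = e y * e y * (e y * a) * a * a := by rw [← h5]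
      _ = (e y * e y * e y) * (a * a * a) := by group
      _ = _ := by rw [h4, one_mul]
  have ha3 : ∀ w ∈ W, a (a (a w)) = w := by
    have h4 := hAW (k * k * k) hk3 v hvW hv (by
      change k (k (k v)) = v
      rw [hgv, hgv, hgv])
    intro w hw
    have h5 := h4 w hw
    rw [hk3a] at h5
    exact h5
  refine ⟨y⁻¹, (a : V →ₗ[ZMod p] V).restrict haW, ?_, by simpa using hy1, ⟨?_, ?_⟩, ?_⟩
  · have : y⁻¹ * y⁻¹ * y⁻¹ = (y * y * y)⁻¹ := by group
    rw [this, hy3, inv_one]
  · intro x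
    ext w
    exact hcomm x w
  · ext w
    exact ha3 w w.2
  · apply Subtype.ext
    exact hav.symm

end main

end Cfsg.Agent.H432.HT
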